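import Mathlib.Topology.Constructible
import Mathlib.Topology.NoetherianSpace
import Mathlib.Topology.Sober
import Mathlib.Topology.Irreducible
import Mathlib.Order.Directed
import Mathlib.Topology.Semicontinuity.Basic
import Mathlib.Data.Set.Finite.Basic

/-!
# Constructible subsets of Noetherian spaces
-/

open Set Topology TopologicalSpace

namespace Groth.Agent.H8Top

variable {X : Type*} [TopologicalSpace X]

/-- A finite union of locally closed sets. -/
def IsFinUnionLC (E : Set X) : Prop :=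
  ∃ (n : ℕ) (L : Fin n → Set X), (∀ i, IsLocallyClosed (L i)) ∧ E = ⋃ i, L i

lemma IsFinUnionLC.of_isLocallyClosed {E : Set X} (h : IsLocallyClosed E) : IsFinUnionLC E :=
  ⟨1, fun _ ↦ E, fun _ ↦ h, by rw [iUnion_const]⟩

lemma IsFinUnionLC.union {E F : Set X} (hE : IsFinUnionLC E) (hF : IsFinUnionLC F) :
    IsFinUnionLC (E ∪ F) := by
  obtain ⟨n, L, hL, rfl⟩ := hE
  obtain ⟨m, M, hM, rfl⟩ := hF
  refine ⟨n + m, Fin.append L M, fun i ↦ ?_, ?_⟩
  · induction i using Fin.addCases <;> simp [hL, hM]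
  · ext x
    simp only [mem_union, mem_iUnion]
    constructor
    · rintro (⟨i, hi⟩ | ⟨i, hi⟩)
      · exact ⟨i.castAdd m, by simpa using hi⟩
      · exact ⟨i.natAdd n, by simpa using hi⟩
    · rintro ⟨i, hi⟩
      induction i using Fin.addCases with
      | left i => exact .inl ⟨i, by simpa using hi⟩
      | right i => exact .inr ⟨i, by simpa using hi⟩

lemma IsFinUnionLC.of_isConstructible {E : Set X} (hE : IsConstructible E) : IsFinUnionLC E := by
  induction E, hE using BooleanSubalgebra.closure_sdiff_sup_induction with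
  | isSublattice =>
    exact ⟨fun s hs t ht ↦ ⟨hs.1.union ht.1, hs.2.union ht.2⟩,
      fun s hs t ht ↦ ⟨hs.1.inter ht.1, hs.2.inter_isOpen ht.2 ht.1⟩⟩
  | bot_mem => exact ⟨isOpen_empty, .empty⟩
  | top_mem => exact ⟨isOpen_univ, .univ⟩
  | sdiff U hU V hV =>
    exact .of_isLocallyClosed (hU.1.isLocallyClosed.inter hV.1.isClosed_compl.isLocallyClosed)
  | sup s _ t _ hs ht => exact hs.union ht

lemma exists_isOpen_inter_dense {ι : Type*} [Finite ι] (L : ι → Set X)
    (hL : ∀ i, IsLocallyClosed (L i)) {Z : Set X} (hZ : IsIrreducible Z)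
    (hd : Z ⊆ closure ((⋃ i, L i) ∩ Z)) :
    ∃ U : Set X, IsOpen U ∧ U ∩ Z ⊆ ⋃ i, L i ∧ Z ⊆ closure (U ∩ Z) := by
  classical
  have := Fintype.ofFinite ι
  rw [iUnion_inter, closure_iUnion_of_finite] at hd
  obtain ⟨t, ht, hZt⟩ := isIrreducible_iff_sUnion_isClosed.1 hZ
    ((Finset.univ : Finset ι).image fun i ↦ closure (L i ∩ Z))
    (by simp) (by simpa [sUnion_range] using hd)
  obtain ⟨i, -, rfl⟩ := Finset.mem_image.1 ht
  obtain ⟨U, C, hU, hC, hUC⟩ := hL i
  have hZC : Z ⊆ C :=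
    hZt.trans ((closure_mono (inter_subset_left.trans (hUC ▸ inter_subset_right))).trans
      hC.closure_subset)
  refine ⟨U, hU, fun x hx ↦ mem_iUnion.2 ⟨i, ?_⟩, hZt.trans (closure_mono ?_)⟩
  · rw [hUC]; exact ⟨hx.1, hZC hx.2⟩
  · exact inter_subset_inter_left _ (hUC ▸ inter_subset_left)

lemma IsFinUnionLC.exists_isOpen_inter {E : Set X} (hE : IsFinUnionLC E) {Z : Set X}
    (hZ : IsIrreducible Z) (hd : Z ⊆ closure (E ∩ Z)) :
    ∃ U : Set X, IsOpen U ∧ (U ∩ Z).Nonempty ∧ U ∩ Z ⊆ E := by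
  obtain ⟨n, L, hL, rfl⟩ := hE
  obtain ⟨U, hU, hsub, hdense⟩ := exists_isOpen_inter_dense L hL hZ hd
  exact ⟨U, hU, closure_nonempty_iff.1 (hZ.nonempty.mono hdense), hsub⟩

lemma subset_closure_inter_of_irreducible {Z U : Set X} (hZ : IsPreirreducible Z) (hU : IsOpen U)
    (hne : (U ∩ Z).Nonempty) : Z ⊆ closure (U ∩ Z) := by
  have h := subset_closure_inter_of_isPreirreducible_of_isOpen hZ hU (by rwa [inter_comm] at hne)
  rwa [inter_comm] at h

lemma dense_preimage_val_iff {E Y : Set X} :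
    Dense (Subtype.val ⁻¹' E : Set Y) ↔ Y ⊆ closure (E ∩ Y) := by
  rw [Subtype.dense_iff, Subtype.image_preimage_coe, inter_comm]

lemma isNowhereDense_preimage_val_or_dense {E Y : Set X} (hY : IsIrreducible Y) :
    IsNowhereDense (Subtype.val ⁻¹' E : Set Y) ∨ Y ⊆ closure (E ∩ Y) := by
  refine or_iff_not_imp_left.2 fun h ↦ dense_preimage_val_iff.1 ?_
  have : PreirreducibleSpace Y :=
    isPreirreducible_iff_preirreducibleSpace.1 hY.isPreirreducible
  obtain ⟨y, hy⟩ := nonempty_iff_ne_empty.2 h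
  have hd : Dense (interior (closure (Subtype.val ⁻¹' E : Set Y))) :=
    isOpen_interior.dense ⟨y, hy⟩
  exact dense_closure.1 (hd.mono interior_subset)

variable [NoetherianSpace X]

lemma isRetrocompact (s : Set X) : IsRetrocompact s :=
  fun _ _ _ ↦ NoetherianSpace.isCompact _

lemma isConstructible_of_isOpen {s : Set X} (h : IsOpen s) : IsConstructible s :=
  (isRetrocompact s).isConstructible h

lemma isConstructible_of_isClosed {s : Set X} (h : IsClosed s) : IsConstructible s :=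
  (isConstructible_of_isOpen h.isOpen_compl).of_compl

lemma isConstructible_of_isLocallyClosed {s : Set X} (h : IsLocallyClosed s) :
    IsConstructible s := by
  obtain ⟨U, C, hU, hC, rfl⟩ := h
  exact (isConstructible_of_isOpen hU).inter (isConstructible_of_isClosed hC)

lemma isConstructible_iff_isFinUnionLC {s : Set X} : IsConstructible s ↔ IsFinUnionLC s := by
  refine ⟨.of_isConstructible, ?_⟩
  rintro ⟨n, L, hL, rfl⟩
  exact .iUnion fun i ↦ isConstructible_of_isLocallyClosed (hL i)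

/-- Noetherian induction on closed subsets, reduced to the irreducible ones. -/
@[elab_as_elim]
theorem closed_induction {motive : Set X → Prop}
    (empty : motive ∅)
    (union : ∀ A B : Set X, IsClosed A → IsClosed B → motive A → motive B → motive (A ∪ B))
    (irred : ∀ Y : Set X, IsClosed Y → IsIrreducible Y →
      (∀ Z : Set X, IsClosed Z → Z ⊂ Y → motive Z) → motive Y)
    (Y : Set X) (hY : IsClosed Y) : motive Y := by
  lift Y to Closeds X using hY
  induction Y using (wellFounded_lt (α := Closeds X)).induction with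
  | h Y ih =>
    have ih' : ∀ Z : Set X, IsClosed Z → Z ⊂ (Y : Set X) → motive Z :=
      fun Z hZ hZY ↦ ih ⟨Z, hZ⟩ (SetLike.coe_ssubset_coe.1 hZY)
    by_cases hp : IsPreirreducible (Y : Set X)
    · rcases (Y : Set X).eq_empty_or_nonempty with he | hne
      · rw [he]; exact empty
      · exact irred _ Y.isClosed ⟨hne, hp⟩ ih'
    · simp only [isPreirreducible_iff_isClosed_union_isClosed, not_forall, not_or] at hp
      obtain ⟨z₁, z₂, hz₁, hz₂, h, hz₁', hz₂'⟩ := hp
      have : (Y : Set X) = ((Y : Set X) ∩ z₁) ∪ ((Y : Set X) ∩ z₂) := by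
        rw [← inter_union_distrib_left, inter_eq_left.2 h]
      rw [this]
      exact union _ _ (Y.isClosed.inter hz₁) (Y.isClosed.inter hz₂)
        (ih' _ (Y.isClosed.inter hz₁) (inter_subset_left.ssubset_of_ne fun e ↦ hz₁' (inter_eq_left.1 e)))
        (ih' _ (Y.isClosed.inter hz₂) (inter_subset_left.ssubset_of_ne fun e ↦ hz₂' (inter_eq_left.1 e)))

omit [TopologicalSpace X] [NoetherianSpace X] in
lemma sdiff_ssubset_of_inter_nonempty {Y U : Set X} (h : (U ∩ Y).Nonempty) : Y \ U ⊂ Y :=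
  sdiff_subset.ssubset_of_ne fun e ↦ by
    obtain ⟨x, hxU, hxY⟩ := h
    rw [← e] at hxY
    exact hxY.2 hxU

theorem isConstructible_iff_forall_irreducible_closed (E : Set X) :
    IsConstructible E ↔
      ∀ Y : Set X, IsClosed Y → IsIrreducible Y →
        IsNowhereDense (Subtype.val ⁻¹' E : Set Y) ∨
          ∃ U : Set X, IsOpen U ∧ (U ∩ Y).Nonempty ∧ U ∩ Y ⊆ E := by
  refine ⟨fun hE Y _ hYi ↦ (isNowhereDense_preimage_val_or_dense hYi).imp_right fun h ↦
    (IsFinUnionLC.of_isConstructible hE).exists_isOpen_inter hYi h, fun h ↦ ?_⟩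
  suffices ∀ Y : Set X, IsClosed Y → IsConstructible (E ∩ Y) by simpa using this univ isClosed_univ
  refine closed_induction (motive := fun Y ↦ IsConstructible (E ∩ Y)) ?_ ?_ ?_
  · simp
  · intro A B _ _ hA hB
    rw [inter_union_distrib_left]; exact hA.union hB
  · intro Y hY hYi ih
    rcases h Y hY hYi with hnd | ⟨U, hU, hne, hsub⟩
    · have hss : closure (E ∩ Y) ⊂ Y := by
        refine (closure_minimal inter_subset_right hY).ssubset_of_ne fun e ↦ ?_
        have hd : Dense (Subtype.val ⁻¹' E : Set Y) := dense_preimage_val_iff.2 e.ge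
        obtain ⟨y, hy⟩ := hYi.nonempty
        have : (⟨y, hy⟩ : Y) ∈ interior (closure (Subtype.val ⁻¹' E : Set Y)) := by
          simp [hd.closure_eq]
        rw [hnd] at this
        exact this
      have := ih _ isClosed_closure hss
      rwa [show E ∩ closure (E ∩ Y) = E ∩ Y from subset_antisymm
        (inter_subset_inter_right _ hss.subset) (subset_inter inter_subset_left subset_closure)] at this
    · have heq : E ∩ Y = (U ∩ Y) ∪ (E ∩ (Y \ U)) := by
        ext x
        have := @hsub x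
        simp only [mem_inter_iff, mem_union, mem_sdiff] at this ⊢
        tauto
      rw [heq]
      exact ((isConstructible_of_isOpen hU).inter (isConstructible_of_isClosed hY)).union
        (ih _ (hY.sdiff hU) (sdiff_ssubset_of_inter_nonempty hne))

theorem mem_nhds_iff_dense_on_irreducible_closed (x : X) {E : Set X} (hE : IsConstructible E) :
    E ∈ nhds x ↔
      ∀ Y : Set X, IsClosed Y → IsIrreducible Y → x ∈ Y → Y ⊆ closure (E ∩ Y) := by
  constructor
  · intro h Y _ hYi hxY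
    obtain ⟨U, hUE, hU, hxU⟩ := mem_nhds_iff.1 h
    exact (subset_closure_inter_of_irreducible hYi.isPreirreducible hU ⟨x, hxU, hxY⟩).trans
      (closure_mono (inter_subset_inter_left _ hUE))
  · intro h
    suffices ∀ Y : Set X, IsClosed Y → ∃ U : Set X, IsOpen U ∧ x ∈ U ∧ U ∩ Y ⊆ E by
      obtain ⟨U, hU, hxU, hUE⟩ := this univ isClosed_univ
      exact mem_nhds_iff.2 ⟨U, by simpa using hUE, hU, hxU⟩
    refine closed_induction
      (motive := fun Y ↦ ∃ U : Set X, IsOpen U ∧ x ∈ U ∧ U ∩ Y ⊆ E) ?_ ?_ ?_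
    · exact ⟨univ, isOpen_univ, trivial, by simp⟩
    · rintro A B _ _ ⟨U, hU, hxU, hUA⟩ ⟨V, hV, hxV, hVB⟩
      refine ⟨U ∩ V, hU.inter hV, ⟨hxU, hxV⟩, ?_⟩
      rintro y ⟨⟨hyU, hyV⟩, hyA | hyB⟩
      exacts [hUA ⟨hyU, hyA⟩, hVB ⟨hyV, hyB⟩]
    · intro Y hY hYi ih
      by_cases hxY : x ∈ Y
      · obtain ⟨U, hU, hne, hsub⟩ :=
          (IsFinUnionLC.of_isConstructible hE).exists_isOpen_inter hYi (h Y hY hYi hxY)
        obtain ⟨V, hV, hxV, hVsub⟩ := ih _ (hY.sdiff hU) (sdiff_ssubset_of_inter_nonempty hne)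
        refine ⟨V, hV, hxV, fun y hy ↦ ?_⟩
        by_cases hyU : y ∈ U
        · exact hsub ⟨hyU, hy.2⟩
        · exact hVsub ⟨hy.1, hy.2, hyU⟩
      · exact ⟨Yᶜ, hY.isOpen_compl, hxY, by simp⟩

theorem isOpen_iff_forall_irreducible_closed (E : Set X) :
    IsOpen E ↔
      ∀ Y : Set X, IsClosed Y → IsIrreducible Y → (E ∩ Y).Nonempty →
        ∃ U : Set X, IsOpen U ∧ (U ∩ Y).Nonempty ∧ U ∩ Y ⊆ E := by
  refine ⟨fun h Y _ _ hne ↦ ⟨E, h, hne, inter_subset_left⟩, fun h ↦ ?_⟩
  have hc : IsConstructible E := (isConstructible_iff_forall_irreducible_closed E).2 fun Y hY hYi ↦ by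
    rcases (E ∩ Y).eq_empty_or_nonempty with he | hne
    · left
      have h0 : (Subtype.val ⁻¹' E : Set Y) = ∅ :=
        eq_empty_iff_forall_notMem.2 fun y hy ↦ by
          have : (y : X) ∈ E ∩ Y := ⟨hy, y.2⟩
          rw [he] at this; exact this
      rw [h0]; exact isNowhereDense_empty
    · exact .inr (h Y hY hYi hne)
  refine isOpen_iff_mem_nhds.2 fun x hx ↦
    (mem_nhds_iff_dense_on_irreducible_closed x hc).2 fun Y hY hYi hxY ↦ ?_
  obtain ⟨U, hU, hne, hsub⟩ := h Y hY hYi ⟨x, hx, hxY⟩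
  exact (subset_closure_inter_of_irreducible hYi.isPreirreducible hU hne).trans
    (closure_mono (subset_inter hsub inter_subset_right))

theorem eq_univ_of_directed_constructible {ι : Type*} [Preorder ι] [IsDirected ι (· ≤ ·)]
    [Nonempty ι] (E : ι → Set X) (hmono : Monotone E) (hE : ∀ a, IsConstructible (E a))
    (hirr : ∀ Y : Set X, IsClosed Y → IsIrreducible Y → ∃ a, Y ⊆ closure (E a ∩ Y)) :
    ∃ a, E a = univ := by
  suffices ∀ Y : Set X, IsClosed Y → ∃ a, Y ⊆ E a by
    obtain ⟨a, ha⟩ := this univ isClosed_univ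
    exact ⟨a, univ_subset_iff.1 ha⟩
  refine closed_induction (motive := fun Y ↦ ∃ a, Y ⊆ E a) ?_ ?_ ?_
  · exact ⟨Classical.arbitrary ι, empty_subset _⟩
  · rintro A B _ _ ⟨a, ha⟩ ⟨b, hb⟩
    obtain ⟨c, hac, hbc⟩ := exists_ge_ge a b
    exact ⟨c, union_subset (ha.trans (hmono hac)) (hb.trans (hmono hbc))⟩
  · intro Y hY hYi ih
    obtain ⟨a, ha⟩ := hirr Y hY hYi
    obtain ⟨U, hU, hne, hsub⟩ :=
      (IsFinUnionLC.of_isConstructible (hE a)).exists_isOpen_inter hYi ha
    obtain ⟨b, hb⟩ := ih _ (hY.sdiff hU) (sdiff_ssubset_of_inter_nonempty hne)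
    obtain ⟨c, hac, hbc⟩ := exists_ge_ge a b
    refine ⟨c, fun y hy ↦ ?_⟩
    by_cases hyU : y ∈ U
    · exact hmono hac (hsub ⟨hyU, hy⟩)
    · exact hmono hbc (hb ⟨hy, hyU⟩)

/-- A map is constructible as soon as it is constant on a nonempty open part of every irreducible
closed subset. -/
theorem constructible_function_of_generically_constant {T : Type*} (h : X → T)
    (hh : ∀ Y : Set X, IsClosed Y → IsIrreducible Y →
      ∃ U : Set X, IsOpen U ∧ (U ∩ Y).Nonempty ∧ ∀ a ∈ U ∩ Y, ∀ b ∈ U ∩ Y, h a = h b) :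
    (∀ t, IsConstructible (h ⁻¹' {t})) ∧ (Set.range h).Finite := by
  suffices ∀ Y : Set X, IsClosed Y →
      (∀ t, IsConstructible (h ⁻¹' {t} ∩ Y)) ∧ (h '' Y).Finite by
    simpa using this univ isClosed_univ
  refine closed_induction
    (motive := fun Y ↦ (∀ t, IsConstructible (h ⁻¹' {t} ∩ Y)) ∧ (h '' Y).Finite) ?_ ?_ ?_
  · simp
  · rintro A B _ _ ⟨hA, hA'⟩ ⟨hB, hB'⟩
    refine ⟨fun t ↦ ?_, ?_⟩
    · rw [inter_union_distrib_left]; exact (hA t).union (hB t)
    · rw [image_union]; exact hA'.union hB'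
  · intro Y hY hYi ih
    obtain ⟨U, hU, ⟨a, ha⟩, hconst⟩ := hh Y hY hYi
    obtain ⟨ih1, ih2⟩ := ih _ (hY.sdiff hU) (sdiff_ssubset_of_inter_nonempty ⟨a, ha⟩)
    constructor
    · intro t
      by_cases hat : h a = t
      · have heq : h ⁻¹' {t} ∩ Y = (U ∩ Y) ∪ (h ⁻¹' {t} ∩ (Y \ U)) := by
          ext x
          simp only [mem_inter_iff, mem_union, mem_sdiff, mem_preimage, mem_singleton_iff]
          constructor
          · rintro ⟨h1, h2⟩; by_cases x ∈ U <;> tauto
          · rintro (h1 | h1)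
            · exact ⟨(hconst x h1 a ha).trans hat, h1.2⟩
            · exact ⟨h1.1, h1.2.1⟩
        rw [heq]
        exact ((isConstructible_of_isOpen hU).inter (isConstructible_of_isClosed hY)).union (ih1 t)
      · have heq : h ⁻¹' {t} ∩ Y = h ⁻¹' {t} ∩ (Y \ U) := by
          ext x
          simp only [mem_inter_iff, mem_sdiff, mem_preimage, mem_singleton_iff]
          exact ⟨fun h1 ↦ ⟨h1.1, h1.2, fun hxU ↦ hat ((hconst a ha x ⟨hxU, h1.2⟩).trans h1.1)⟩,
            fun h1 ↦ ⟨h1.1, h1.2.1⟩⟩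
        rw [heq]; exact ih1 t
    · refine (ih2.insert (h a)).subset ?_
      rintro _ ⟨x, hx, rfl⟩
      by_cases hxU : x ∈ U
      · exact .inl (hconst x ⟨hxU, hx⟩ a ha)
      · exact .inr ⟨x, ⟨hx, hxU⟩, rfl⟩

omit [NoetherianSpace X] in
theorem constructible_function_generically_constant {T : Type*} (h : X → T)
    (hfib : ∀ t, IsConstructible (h ⁻¹' {t})) {Y : Set X} (hY : IsIrreducible Y) {t : T}
    (ht : Y ⊆ closure (h ⁻¹' {t} ∩ Y)) :
    ∃ U : Set X, IsOpen U ∧ (U ∩ Y).Nonempty ∧ ∀ a ∈ U ∩ Y, ∀ b ∈ U ∩ Y, h a = h b := by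
  obtain ⟨U, hU, hne, hsub⟩ := (IsFinUnionLC.of_isConstructible (hfib t)).exists_isOpen_inter hY ht
  exact ⟨U, hU, hne, fun a ha b hb ↦ ((hsub ha : h a = t)).trans ((hsub hb : h b = t)).symm⟩

omit [NoetherianSpace X] in
lemma subset_closure_inter_of_genericPoint_mem {Y E : Set X} {ξ : X} (hξ : IsGenericPoint ξ Y)
    (hξE : ξ ∈ E) : Y ⊆ closure (E ∩ Y) := by
  conv_lhs => rw [← hξ.def]
  exact closure_mono (singleton_subset_iff.2 ⟨hξE, hξ.mem⟩)

theorem isOpen_of_isConstructible_of_stableUnderGeneralization [QuasiSober X] {E : Set X}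
    (hE : IsConstructible E) (hg : StableUnderGeneralization E) : IsOpen E := by
  refine isOpen_iff_mem_nhds.2 fun x hx ↦
    (mem_nhds_iff_dense_on_irreducible_closed x hE).2 fun Y hY hYi hxY ↦ ?_
  obtain ⟨ξ, hξ⟩ := QuasiSober.sober hYi hY
  exact subset_closure_inter_of_genericPoint_mem hξ (hg (hξ.specializes hxY) hx)

end Groth.Agent.H8Top
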