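import Mathlib.Topology.Constructible
import Mathlib.Topology.Spectral.Prespectral
import Mathlib.Data.Fintype.Powerset

/-!
# Constructible subsets of general spaces
-/

open Set Topology TopologicalSpace

namespace Groth.Agent.H8Top

variable {X Y : Type*} [TopologicalSpace X] [TopologicalSpace Y]

lemma isRetrocompact_sdiff {U V : Set X} (hU : IsRetrocompact U) (hV : IsOpen V) :
    IsRetrocompact (U \ V) := by
  intro W hWc hWo
  rw [sdiff_inter_right_comm]
  exact IsCompact.diff (hU hWc hWo) hV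

lemma isRetrocompact_of_isConstructible {s : Set X} (hs : IsConstructible s) :
    IsRetrocompact s := by
  induction s, hs using BooleanSubalgebra.closure_sdiff_sup_induction with
  | isSublattice =>
    exact ⟨fun s hs t ht ↦ ⟨hs.1.union ht.1, hs.2.union ht.2⟩,
      fun s hs t ht ↦ ⟨hs.1.inter ht.1, hs.2.inter_isOpen ht.2 ht.1⟩⟩
  | bot_mem => exact ⟨isOpen_empty, .empty⟩
  | top_mem => exact ⟨isOpen_univ, .univ⟩
  | sdiff U hU V hV => exact isRetrocompact_sdiff hU.2 hV.1
  | sup s _ t _ hs ht => exact hs.union ht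

lemma exists_isCompact_isOpen_preimage_eq [PrespectralSpace X] {f : Y → X} (hf : IsInducing f)
    {W : Set Y} (hWc : IsCompact W) (hWo : IsOpen W) :
    ∃ V : Set X, IsCompact V ∧ IsOpen V ∧ f ⁻¹' V = W := by
  obtain ⟨U, hU, rfl⟩ := hf.isOpen_iff.1 hWo
  obtain ⟨V, hVc, hVo, hKV, hVU⟩ :=
    PrespectralSpace.exists_isCompact_and_isOpen_between (hWc.image hf.continuous) hU
      (image_preimage_subset _ _)
  exact ⟨V, hVc, hVo, subset_antisymm (preimage_mono hVU) fun y hy ↦ hKV ⟨y, hy, rfl⟩⟩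

lemma preimage_isRetrocompact_of_isEmbedding [PrespectralSpace X] {f : Y → X} (hf : IsEmbedding f)
    (hr : IsRetrocompact (range f)) {U : Set X} (hU : IsOpen U) (hUr : IsRetrocompact U) :
    IsRetrocompact (f ⁻¹' U) := by
  intro W hWc hWo
  obtain ⟨V, hVc, hVo, rfl⟩ := exists_isCompact_isOpen_preimage_eq hf.isInducing hWc hWo
  rw [← preimage_inter, hf.isCompact_iff, image_preimage_eq_range_inter]
  exact hr (hUr hVc hVo) (hU.inter hVo)

lemma isConstructible_preimage_of_isEmbedding [PrespectralSpace X] {f : Y → X} (hf : IsEmbedding f)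
    (hr : IsRetrocompact (range f)) {E : Set X} (hE : IsConstructible E) :
    IsConstructible (f ⁻¹' E) :=
  hE.preimage hf.continuous fun _ hU hUr ↦ preimage_isRetrocompact_of_isEmbedding hf hr hU hUr

lemma isConstructible_preimage_val [PrespectralSpace X] {T : Set X} (hT : IsRetrocompact T)
    {E : Set X} (hE : IsConstructible E) : IsConstructible ((Subtype.val : T → X) ⁻¹' E) :=
  isConstructible_preimage_of_isEmbedding .subtypeVal (by simpa using hT) hE

lemma prespectralSpace_of_isRetrocompact [PrespectralSpace X] {E : Set X} (hE : IsRetrocompact E) :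
    PrespectralSpace E := by
  refine ⟨isTopologicalBasis_of_isOpen_of_nhds (fun s hs ↦ hs.1) fun x W hxW hWo ↦ ?_⟩
  obtain ⟨U, hU, rfl⟩ := isOpen_induced_iff.1 hWo
  obtain ⟨V, ⟨hVo, hVc⟩, hxV, hVU⟩ :=
    (PrespectralSpace.isTopologicalBasis (X := X)).exists_subset_of_mem_open hxW hU
  refine ⟨Subtype.val ⁻¹' V, ⟨hVo.preimage continuous_subtype_val, ?_⟩, hxV, preimage_mono hVU⟩
  rw [IsEmbedding.subtypeVal.isCompact_iff, Subtype.image_preimage_coe]
  exact hE hVc hVo

lemma isConstructible_image_of_sdiff {U V : Set X} (hUo : IsOpen U) (hUr : IsRetrocompact U)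
    (hVo : IsOpen V) (hVr : IsRetrocompact V) {F : Set ↥(U \ V)} (hF : IsConstructible F) :
    IsConstructible (Subtype.val '' F) := by
  let i : ↥(U \ V) → U := Set.inclusion (fun _ hx ↦ hx.1)
  have hri : range i = ((Subtype.val : U → X) ⁻¹' V)ᶜ := by
    ext x
    simp [i, Set.range_inclusion]
  have hi : IsClosedEmbedding i :=
    ⟨IsEmbedding.inclusion _, by
      rw [hri]; exact (hVo.preimage continuous_subtype_val).isClosed_compl⟩
  have hrc : IsRetrocompact (range i)ᶜ := by
    rw [hri, compl_compl]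
    exact hVr.preimage_of_isOpenEmbedding hUo.isOpenEmbedding_subtypeVal
  have := (hF.image_of_isClosedEmbedding hi hrc).image_of_isOpenEmbedding
    hUo.isOpenEmbedding_subtypeVal (by simpa using hUr)
  rwa [← image_comp] at this

lemma isConstructible_inter_of_image [PrespectralSpace X] {E : Set X} (hE : IsRetrocompact E)
    {P : Set X} (hP : IsConstructible P) :
    ∀ G : Set E, IsConstructible G →
      (∀ H : Set P, IsConstructible H → IsConstructible (Subtype.val '' H)) →
      P ⊆ E → IsConstructible (Subtype.val '' G ∩ P) := by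
  intro G hG hPim hPE
  have := prespectralSpace_of_isRetrocompact hE
  let j : P → E := Set.inclusion hPE
  have hj : IsEmbedding j := IsEmbedding.inclusion _
  have hrj : IsRetrocompact (range j) := by
    have : range j = (Subtype.val : E → X) ⁻¹' P := by
      ext x
      simp [j, Set.range_inclusion]
    rw [this]
    intro W hWc hWo
    obtain ⟨W', hW'c, hW'o, rfl⟩ :=
      exists_isCompact_isOpen_preimage_eq IsEmbedding.subtypeVal.isInducing hWc hWo
    rw [← preimage_inter, IsEmbedding.subtypeVal.isCompact_iff, Subtype.image_preimage_coe,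
      ← inter_assoc, inter_eq_right.2 hPE]
    exact isRetrocompact_of_isConstructible hP hW'c hW'o
  have := hPim _ (isConstructible_preimage_of_isEmbedding hj hrj hG)
  convert this using 1
  ext x
  constructor
  · rintro ⟨⟨⟨y, hyE⟩, hyG, rfl⟩, hyP⟩
    exact ⟨⟨y, hyP⟩, hyG, rfl⟩
  · rintro ⟨⟨y, hyP⟩, hy, rfl⟩
    exact ⟨⟨⟨y, hPE hyP⟩, hy, rfl⟩, hyP⟩

lemma isConstructible_image_val [PrespectralSpace X] {E : Set X} (hE : IsConstructible E)
    {G : Set E} (hG : IsConstructible G) : IsConstructible (Subtype.val '' G) := by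
  have key : ∀ (P : Set X), IsConstructible P → P ⊆ E →
      IsConstructible (Subtype.val '' G ∩ P) := by
    intro P hP
    induction P, hP using BooleanSubalgebra.closure_sdiff_sup_induction with
    | isSublattice =>
      exact ⟨fun s hs t ht ↦ ⟨hs.1.union ht.1, hs.2.union ht.2⟩,
        fun s hs t ht ↦ ⟨hs.1.inter ht.1, hs.2.inter_isOpen ht.2 ht.1⟩⟩
    | bot_mem => exact ⟨isOpen_empty, .empty⟩
    | top_mem => exact ⟨isOpen_univ, .univ⟩
    | sdiff U hU V hV =>
      exact isConstructible_inter_of_image (isRetrocompact_of_isConstructible hE)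
        ((hU.2.isConstructible hU.1).sdiff (hV.2.isConstructible hV.1)) G hG
        (fun H hH ↦ isConstructible_image_of_sdiff hU.1 hU.2 hV.1 hV.2 hH)
    | sup s _ t _ hs ht =>
      intro h
      rw [show s ⊔ t = s ∪ t from rfl, inter_union_distrib_left]
      exact (hs (subset_union_left.trans h : s ⊆ E)).union (ht (subset_union_right.trans h : t ⊆ E))
  have := key E hE subset_rfl
  rwa [inter_eq_left.2 (Subtype.coe_image_subset _ _)] at this

lemma isConstructible_of_isLocallyClosed_isCompact [CompactSpace X] [PrespectralSpace X]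
    [QuasiSeparatedSpace X] {T : Set X} (hT : IsLocallyClosed T) (hTc : IsCompact T)
    (hTr : IsRetrocompact Tᶜ) : IsConstructible T := by
  obtain ⟨U, C, hU, hC, rfl⟩ := hT
  obtain ⟨W, hWc, hWo, hTW, hWU⟩ :=
    PrespectralSpace.exists_isCompact_and_isOpen_between hTc hU inter_subset_left
  have h1 : (U ∩ C)ᶜ ∩ W = W \ C := by
    ext x
    have := @hWU x
    simp only [mem_inter_iff, mem_compl_iff, mem_sdiff]
    tauto
  have h2 : IsConstructible (W \ C) :=
    ((h1 ▸ hTr hWc hWo : IsCompact (W \ C))).isConstructible (hWo.sdiff hC)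
  have h3 : U ∩ C = W \ (W \ C) := by
    ext x
    have := @hWU x
    have := @hTW x
    simp only [mem_inter_iff, mem_sdiff] at *
    tauto
  rw [h3]
  exact (hWc.isConstructible hWo).sdiff h2

lemma isRetrocompact_of_isLocallyConstructible {B : Set (Set X)} (hB : IsTopologicalBasis B)
    (hBr : ∀ U ∈ B, IsRetrocompact U) {T : Set X} (hT : IsLocallyConstructible T) :
    IsRetrocompact T := by
  intro W hWc hWo
  have : ∀ x ∈ W, ∃ b : Set X, IsOpen b ∧ x ∈ b ∧ b ⊆ W ∧ IsCompact (T ∩ b) := by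
    intro x hx
    obtain ⟨U, hU, hUo, hUT⟩ := hT x
    obtain ⟨b, hb, hxb, hbUW⟩ :=
      hB.exists_subset_of_mem_open (show x ∈ U ∩ W from ⟨mem_of_mem_nhds hU, hx⟩) (hUo.inter hWo)
    have hbo : IsOpen b := hB.isOpen hb
    have hbc : IsCompact b := by
      have := hBr b hb hWc hWo
      rwa [inter_eq_left.2 (hbUW.trans inter_subset_right)] at this
    have hbU : IsCompact ((Subtype.val : U → X) ⁻¹' b) := by
      rw [IsEmbedding.subtypeVal.isCompact_iff, Subtype.image_preimage_coe,
        inter_eq_right.2 (hbUW.trans inter_subset_left)]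
      exact hbc
    refine ⟨b, hbo, hxb, hbUW.trans inter_subset_right, ?_⟩
    have := isRetrocompact_of_isConstructible hUT hbU (hbo.preimage continuous_subtype_val)
    rw [← preimage_inter, IsEmbedding.subtypeVal.isCompact_iff, Subtype.image_preimage_coe] at this
    rwa [inter_eq_right.2 (inter_subset_right.trans (hbUW.trans inter_subset_left))] at this
  choose! b hbo hxb hbW hbc using this
  obtain ⟨t, ht⟩ := hWc.elim_finite_subcover (fun x : W ↦ b x) (fun x ↦ hbo x x.2)
    (fun x hx ↦ mem_iUnion.2 ⟨⟨x, hx⟩, hxb x hx⟩)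
  have : T ∩ W = ⋃ x ∈ t, T ∩ b (x : X) := by
    refine subset_antisymm (fun y hy ↦ ?_) (iUnion₂_subset fun x _ ↦
      inter_subset_inter_right _ (hbW x x.2))
    obtain ⟨x, hxt, hyx⟩ := mem_iUnion₂.1 (ht hy.2)
    exact mem_iUnion₂.2 ⟨x, hxt, hy.1, hyx⟩
  rw [this]
  exact t.isCompact_biUnion fun x _ ↦ hbc x x.2

lemma exists_pattern {s : Set X} (hs : IsConstructible s) :
    ∃ F : Set (Set X), F.Finite ∧ (∀ U ∈ F, IsOpen U ∧ IsRetrocompact U) ∧
      ∀ x y : X, (∀ U ∈ F, x ∈ U ↔ y ∈ U) → (x ∈ s ↔ y ∈ s) := by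
  induction hs using IsConstructible.empty_union_induction with
  | open_retrocompact U hU hUr =>
    exact ⟨{U}, finite_singleton U, by simp [hU, hUr], fun x y h ↦ h U rfl⟩
  | union s hs t ht hs' ht' =>
    obtain ⟨F, hF, hFo, hFp⟩ := hs'
    obtain ⟨G, hG, hGo, hGp⟩ := ht'
    exact ⟨F ∪ G, hF.union hG, fun U hU ↦ hU.elim (hFo U) (hGo U), fun x y h ↦
      or_congr (hFp x y fun U hU ↦ h U (.inl hU)) (hGp x y fun U hU ↦ h U (.inr hU))⟩
  | compl s hs hs' =>
    obtain ⟨F, hF, hFo, hFp⟩ := hs'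
    exact ⟨F, hF, hFo, fun x y h ↦ not_congr (hFp x y h)⟩

lemma exists_stratification {n : ℕ} (T : Fin n → Set X) (hT : ∀ k, IsConstructible (T k)) :
    ∃ (I : Type) (_ : Fintype I) (_ : PartialOrder I) (S : I → Set X),
      (∀ i, IsLocallyClosed (S i) ∧ IsConstructible (S i)) ∧ (⋃ i, S i = Set.univ) ∧
      (∀ i j, i ≠ j → Disjoint (S i) (S j)) ∧
      (∀ j, closure (S j) ⊆ ⋃ i ∈ Set.Iic j, S i) ∧
      (∀ i k, (S i ∩ T k).Nonempty → S i ⊆ T k) := by
  classical
  choose F hF hFo hFp using fun k ↦ exists_pattern (hT k)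
  obtain ⟨m, U, -, hU⟩ := (finite_iUnion hF).fin_param
  have hUo : ∀ i, IsOpen (U i) ∧ IsRetrocompact (U i) := fun i ↦ by
    obtain ⟨k, hk⟩ := mem_iUnion.1 (hU ▸ mem_range_self i : U i ∈ ⋃ k, F k)
    exact hFo k _ hk
  let pat : X → Finset (Fin m) := fun x ↦ Finset.univ.filter fun i ↦ x ∈ U i
  refine ⟨Finset (Fin m), inferInstance, inferInstance, fun σ ↦ pat ⁻¹' {σ}, fun σ ↦ ?_, ?_, ?_, ?_,
    ?_⟩
  · have h1 : pat ⁻¹' {σ} = (⋂ i ∈ σ, U i) ∩ (⋃ i ∈ (σᶜ : Finset (Fin m)), U i)ᶜ := by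
      ext x
      simp only [pat, mem_preimage, mem_singleton_iff, mem_inter_iff, mem_compl_iff, mem_iUnion,
        mem_iInter, Finset.ext_iff, Finset.mem_filter, Finset.mem_univ, true_and, Finset.mem_compl,
        not_exists, exists_prop, not_and]
      exact ⟨fun h ↦ ⟨fun i hi ↦ (h i).2 hi, fun i hi hx ↦ hi ((h i).1 hx)⟩,
        fun h i ↦ ⟨fun hx ↦ by_contra fun hi ↦ h.2 i hi hx, fun hi ↦ h.1 i hi⟩⟩
    dsimp only
    rw [h1]
    exact ⟨((isOpen_biInter_finset fun i _ ↦ (hUo i).1).isLocallyClosed).inter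
        (isOpen_biUnion fun i _ ↦ (hUo i).1).isClosed_compl.isLocallyClosed,
      (IsConstructible.biInter σ.finite_toSet fun i _ ↦ (hUo i).2.isConstructible (hUo i).1).inter
        (IsConstructible.biUnion (σᶜ : Finset (Fin m)).finite_toSet
          fun i _ ↦ (hUo i).2.isConstructible (hUo i).1).compl⟩
  · exact eq_univ_of_forall fun x ↦ mem_iUnion.2 ⟨pat x, rfl⟩
  · exact fun i j hij ↦ (disjoint_singleton.2 hij).preimage pat
  · intro j y hy
    refine mem_iUnion₂.2 ⟨pat y, fun i hi ↦ ?_, rfl⟩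
    obtain ⟨x, hxU, hx⟩ := mem_closure_iff.1 hy (U i) (hUo i).1 (Finset.mem_filter.1 hi).2
    rw [mem_preimage, mem_singleton_iff] at hx
    rw [← hx]
    exact Finset.mem_filter.2 ⟨Finset.mem_univ _, hxU⟩
  · rintro σ k ⟨x, hx, hxT⟩ y hy
    rw [mem_preimage, mem_singleton_iff] at hx hy
    refine (hFp k x y fun V hV ↦ ?_).1 hxT
    obtain ⟨i, rfl⟩ : V ∈ range U := hU.symm ▸ mem_iUnion.2 ⟨k, hV⟩
    have := Finset.ext_iff.1 (hx.trans hy.symm) i
    simpa [pat] using this

end Groth.Agent.H8Top
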