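import Mathlib.AlgebraicGeometry.Noetherian
import Mathlib.AlgebraicGeometry.Morphisms.QuasiCompact
import Mathlib.AlgebraicGeometry.IdealSheaf.Basic
import Mathlib.RingTheory.Noetherian.Nilpotent

/-!
# Basic facts on quasi-compact morphisms and Noetherian schemes
-/

universe u

open CategoryTheory AlgebraicGeometry Topology TopologicalSpace

namespace Groth.Agent.H8Top

variable {X Y Z : Scheme.{u}}

/-- The closure of the image of a quasi-compact morphism consists of the specializations of the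
image. -/
lemma exists_specializes_of_mem_closure_range (f : X ⟶ Y) [QuasiCompact f] {y : Y}
    (hy : y ∈ closure (Set.range f)) : ∃ x : X, f x ⤳ y := by
  obtain ⟨V, hV, hyV, -⟩ := exists_isAffineOpen_mem_and_subset (x := y) (U := ⊤) trivial
  obtain ⟨s, hs, heq⟩ := isCompact_iff_finite_and_eq_biUnion_affineOpens.1
    (f.isCompact_preimage hV.isCompact)
  have hy' : y ∈ closure (⋃ W ∈ s, f '' ((W : X.Opens) : Set X)) := by
    refine closure_mono ?_ (V.isOpen.inter_closure ⟨hyV, hy⟩)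
    rintro z ⟨hz, x, rfl⟩
    have hx : x ∈ f ⁻¹ᵁ V := hz
    rw [heq] at hx
    simp only [Opens.mem_iSup] at hx
    obtain ⟨W, hW, hxW⟩ := hx
    exact Set.mem_iUnion₂.2 ⟨W, hW, x, hxW, rfl⟩
  rw [hs.closure_biUnion, Set.mem_iUnion₂] at hy'
  obtain ⟨⟨W, hW⟩, hWs, hyW⟩ := hy'
  have hWV : W ≤ f ⁻¹ᵁ V := by rw [heq]; exact le_iSup₂_of_le ⟨W, hW⟩ hWs le_rfl
  have himg : f '' (W : Set X) =
      hV.fromSpec '' (Set.range (PrimeSpectrum.comap (f.appLE V W hWV).hom)) := by
    have hW' : IsAffineOpen W := hW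
    rw [← hW'.range_fromSpec]
    refine (Set.range_comp _ _).symm.trans (Eq.trans ?_ (Set.range_comp _ _))
    congr 1
    ext p
    exact congr($((IsAffineOpen.SpecMap_appLE_fromSpec f hV hW' hWV).symm) p)
  rw [himg] at hyW
  obtain ⟨q, rfl⟩ : y ∈ Set.range hV.fromSpec := hV.range_fromSpec.symm ▸ hyV
  have hq : q ∈ closure (Set.range (PrimeSpectrum.comap (f.appLE V W hWV).hom)) := by
    exact (hV.fromSpec.isOpenEmbedding.isInducing.closure_eq_preimage_closure_image _).ge hyW
  rw [PrimeSpectrum.closure_range_comap] at hq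
  have hqp : (PrimeSpectrum.asIdeal (R := Γ(Y, V)) q).IsPrime := PrimeSpectrum.isPrime q
  obtain ⟨m, hm, hmq⟩ := Ideal.exists_minimalPrimes_le (J := PrimeSpectrum.asIdeal (R := Γ(Y, V)) q) hq
  have := hm.1.1
  obtain ⟨m', hm', -, hm''⟩ := Ideal.exists_comap_eq_of_mem_minimalPrimes
    (f.appLE V W hWV).hom (I := ⊥) m hm
  subst hm''
  obtain ⟨x, -, hx⟩ :
      hV.fromSpec (PrimeSpectrum.comap (f.appLE V W hWV).hom ⟨m', hm'⟩) ∈ f '' (W : Set X) :=
    himg ▸ ⟨_, ⟨⟨m', hm'⟩, rfl⟩, rfl⟩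
  refine ⟨x, hx ▸ Specializes.map ?_ hV.fromSpec.continuous⟩
  exact (PrimeSpectrum.le_iff_specializes _ q).1 hmq

lemma isDominant_iff_maximal_points (f : X ⟶ Y) [QuasiCompact f] :
    IsDominant f ↔ ∀ y : Y, closure {y} ∈ irreducibleComponents (Y : Type u) →
      ∃ x : X, closure {x} ∈ irreducibleComponents (X : Type u) ∧ f x = y := by
  constructor
  · intro hf y hy
    obtain ⟨x, hx⟩ := exists_specializes_of_mem_closure_range f (y := y)
      (f.denseRange.closure_range ▸ Set.mem_univ y)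
    have hZ := irreducibleComponent_mem_irreducibleComponents x
    obtain ⟨ξ, hξ⟩ := QuasiSober.sober hZ.1 (isClosed_of_mem_irreducibleComponents _ hZ)
    refine ⟨ξ, hξ.def.symm ▸ hZ, ?_⟩
    have h1 : f ξ ⤳ y := ((hξ.specializes mem_irreducibleComponent).map f.continuous).trans hx
    have h2 : closure {y} ⊆ closure {f ξ} :=
      closure_minimal (Set.singleton_subset_iff.2 h1.mem_closure) isClosed_closure
    have h3 := (hy.2 isIrreducible_singleton.closure h2).antisymm h2
    exact (specializes_iff_mem_closure.2 (h3.symm ▸ subset_closure rfl) :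
      f ξ ⤳ y).antisymm (specializes_iff_mem_closure.2 (h3 ▸ subset_closure rfl)) |>.eq
  · intro h
    refine ⟨dense_iff_closure_eq.2 (Set.eq_univ_of_univ_subset ?_)⟩
    rw [← genericPoints.closure (α := Y)]
    exact closure_mono fun y hy ↦ (h y hy).imp fun x hx ↦ hx.2

lemma exists_finite_affine_cover (X : Scheme.{u}) [CompactSpace X] :
    ∃ s : Finset X.affineOpens, (⨆ U : s, (U.1.1 : X.Opens)) = ⊤ := by
  obtain ⟨s, hs, heq⟩ := isCompact_iff_finite_and_eq_biUnion_affineOpens.1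
    (show IsCompact ((⊤ : X.Opens) : Set X) by simpa using isCompact_univ)
  refine ⟨hs.toFinset, ?_⟩
  rw [heq, iSup_subtype' (p := fun i ↦ i ∈ s)]
  refine (hs.toFinset.equivToSet.trans (Equiv.setCongr hs.coe_toFinset)).iSup_congr fun i ↦ rfl

lemma isNilpotent_nilradical (X : Scheme.{u}) [IsNoetherian X] : IsNilpotent X.nilradical := by
  obtain ⟨s, hs⟩ := exists_finite_affine_cover X
  have : ∀ U : s, ∃ n, (X.nilradical.ideal U.1) ^ n = ⊥ := fun U ↦ by
    have : IsNoetherianRing Γ(X, U.1) := IsLocallyNoetherian.component_noetherian U.1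
    exact IsNoetherianRing.isNilpotent_nilradical Γ(X, U.1)
  choose n hn using this
  refine ⟨∑ U : s, n U, Scheme.IdealSheafData.ext_of_iSup_eq_top (fun U : s ↦ U.1) hs fun U ↦ ?_⟩
  rw [Scheme.IdealSheafData.ideal_pow, Pi.pow_apply,
    show (0 : X.IdealSheafData) = ⊥ from rfl, Scheme.IdealSheafData.ideal_bot]
  exact le_bot_iff.1 ((Ideal.pow_le_pow_right
    (Finset.single_le_sum (fun V _ ↦ Nat.zero_le (n V)) (Finset.mem_univ U))).trans (hn U).le)

lemma wellFoundedGT_idealSheafData (X : Scheme.{u}) [IsNoetherian X] :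
    WellFoundedGT X.IdealSheafData := by
  obtain ⟨s, hs⟩ := exists_finite_affine_cover X
  have : ∀ U : s, WellFoundedGT (Ideal Γ(X, U.1.1)) := fun U ↦ by
    have : IsNoetherianRing Γ(X, U.1) := IsLocallyNoetherian.component_noetherian U.1
    infer_instance
  have : ∀ U : s, IsNoetherian Γ(X, U.1.1) Γ(X, U.1.1) := fun U ↦
    isNoetherianRing_iff.1 (IsLocallyNoetherian.component_noetherian U.1)
  let e : X.IdealSheafData → Submodule (∀ U : s, Γ(X, U.1.1)) (∀ U : s, Γ(X, U.1.1)) :=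
    fun I ↦ Ideal.pi fun U : s ↦ I.ideal U.1
  refine StrictMono.wellFoundedGT (f := e) ?_
  intro I J h
  refine lt_of_le_of_ne (fun a ha U ↦ h.le U.1 (ha U)) fun e ↦ h.ne ?_
  refine Scheme.IdealSheafData.ext_of_iSup_eq_top (fun U : s ↦ U.1) hs fun U ↦ ?_
  classical
  ext a
  have := SetLike.ext_iff.1 e (Pi.single U a)
  constructor
  · intro ha
    simpa using this.1 (fun V ↦ by
      rcases eq_or_ne V U with rfl | hne <;> simp [*]) U
  · intro ha
    simpa using this.2 (fun V ↦ by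
      rcases eq_or_ne V U with rfl | hne <;> simp [*]) U

lemma isCompact_of_locallyNoetherianSpace {α : Type*} [TopologicalSpace α]
    (h : ∀ x : α, ∃ U : Opens α, x ∈ U ∧ NoetherianSpace U) {K S : Set α} (hK : IsCompact K)
    (hS : S ⊆ K) : IsCompact S := by
  choose U hxU hU using h
  obtain ⟨t, ht⟩ := hK.elim_finite_subcover (fun x ↦ (U x : Set α)) (fun x ↦ (U x).isOpen)
    (fun x _ ↦ Set.mem_iUnion.2 ⟨x, hxU x⟩)
  have : S = ⋃ x ∈ t, S ∩ U x := by
    rw [← Set.inter_iUnion₂, Set.inter_eq_left.2 (hS.trans ht)]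
  rw [this]
  refine t.isCompact_biUnion fun x _ ↦ ?_
  have : IsCompact ((Subtype.val : U x → α) ⁻¹' S) := @NoetherianSpace.isCompact _ _ (hU x) _
  have := this.image continuous_subtype_val
  have heq : (Subtype.val : U x → α) '' (Subtype.val ⁻¹' S) = S ∩ U x :=
    (Subtype.image_preimage_coe (U x : Set α) S).trans (Set.inter_comm _ _)
  exact heq ▸ this

lemma quasiCompact_of_isImmersion (f : X ⟶ Y) [IsImmersion f]
    (hY : ∀ y : Y, ∃ U : Y.Opens, y ∈ U ∧ NoetherianSpace U) : QuasiCompact f := by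
  refine ⟨fun V _ hVc ↦ ?_⟩
  rw [f.isEmbedding.isCompact_iff]
  exact isCompact_of_locallyNoetherianSpace hY hVc (Set.image_preimage_subset _ _)

lemma quasiCompact_of_comp (f : X ⟶ Y) (g : Y ⟶ Z) [QuasiCompact (f ≫ g)]
    (hX : ∀ x : X, ∃ U : X.Opens, x ∈ U ∧ NoetherianSpace U) : QuasiCompact f := by
  refine ⟨fun V _ hVc ↦ ?_⟩
  obtain ⟨W, hWc, hWo, hVW, -⟩ := PrespectralSpace.exists_isCompact_and_isOpen_between
    (hVc.image g.continuous) isOpen_univ (Set.subset_univ _)
  exact isCompact_of_locallyNoetherianSpace hX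
    (QuasiCompact.isCompact_preimage (f := f ≫ g) W hWo hWc) fun x hx ↦ hVW ⟨f x, hx, rfl⟩

end Groth.Agent.H8Top
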