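import Mathlib.Topology.NoetherianSpace
import Mathlib.Topology.Connected.LocallyConnected
import Mathlib.Topology.Connected.Clopen

/-!
# Irreducible components of locally Noetherian spaces
-/

open Set Topology TopologicalSpace

namespace Groth.Agent.H8Top

variable {X : Type*} [TopologicalSpace X]

/-- Every point has a neighbourhood which is a Noetherian space. -/
def IsLocNoetherian (X : Type*) [TopologicalSpace X] : Prop :=
  ∀ x : X, ∃ U ∈ nhds x, NoetherianSpace U

lemma IsLocNoetherian.exists_open (hX : IsLocNoetherian X) (x : X) :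
    ∃ W : Set X, IsOpen W ∧ x ∈ W ∧ NoetherianSpace W := by
  obtain ⟨U, hU, hUN⟩ := hX x
  exact ⟨interior U, isOpen_interior, mem_interior_iff_mem_nhds.2 hU,
    (IsEmbedding.inclusion interior_subset).isInducing.noetherianSpace⟩

lemma IsLocNoetherian.of_isOpen (hX : IsLocNoetherian X) (F : Set X) :
    IsLocNoetherian F := by
  intro x
  obtain ⟨W, hW, hxW, hWN⟩ := hX.exists_open x
  refine ⟨Subtype.val ⁻¹' W, (hW.preimage continuous_subtype_val).mem_nhds hxW, ?_⟩
  have h2 : IsEmbedding (fun z : ↥(Subtype.val ⁻¹' W : Set F) ↦ (z.1.1 : X)) :=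
    IsEmbedding.subtypeVal.comp IsEmbedding.subtypeVal
  have this : IsInducing (fun z : ↥(Subtype.val ⁻¹' W : Set F) ↦ (⟨z.1.1, z.2⟩ : W)) :=
    IsInducing.of_comp (h2.continuous.subtype_mk _) continuous_subtype_val h2.isInducing
  exact this.noetherianSpace

lemma IsLocNoetherian.exists_nhd_subset_components (hX : IsLocNoetherian X) (y : X) :
    ∃ N : Set X, IsOpen N ∧ y ∈ N ∧
      N ⊆ ⋃₀ {Z | Z ∈ irreducibleComponents X ∧ y ∈ Z} := by
  obtain ⟨W, hW, hyW, hWN⟩ := hX.exists_open y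
  let bad : Set (Set W) := {C | C ∈ irreducibleComponents W ∧ (⟨y, hyW⟩ : W) ∉ C}
  have hbad : IsClosed (⋃₀ bad) := by
    rw [sUnion_eq_biUnion]
    exact (NoetherianSpace.finite_irreducibleComponents.subset fun C hC ↦ hC.1).isClosed_biUnion
      fun C hC ↦ isClosed_of_mem_irreducibleComponents C hC.1
  refine ⟨Subtype.val '' (⋃₀ bad)ᶜ, hW.isOpenMap_subtype_val _ hbad.isOpen_compl,
    ⟨⟨y, hyW⟩, fun ⟨C, hC, hyC⟩ ↦ hC.2 hyC, rfl⟩, ?_⟩
  rintro _ ⟨x, hx, rfl⟩
  have hCy : (⟨y, hyW⟩ : W) ∈ irreducibleComponent x := by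
    by_contra h
    exact hx ⟨_, ⟨irreducibleComponent_mem_irreducibleComponents x, h⟩, mem_irreducibleComponent⟩
  obtain ⟨Z, hZ, hCZ⟩ := exists_mem_irreducibleComponents_subset_of_isIrreducible _
    ((isIrreducible_irreducibleComponent (x := x)).image Subtype.val
      continuous_subtype_val.continuousOn)
  exact ⟨Z, ⟨hZ, hCZ ⟨_, hCy, rfl⟩⟩, hCZ ⟨x, mem_irreducibleComponent, rfl⟩⟩

lemma IsLocNoetherian.isOpen_connectedComponent (hX : IsLocNoetherian X) (x : X) :
    IsOpen (connectedComponent x) := by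
  refine isOpen_iff_mem_nhds.2 fun y hy ↦ ?_
  obtain ⟨N, hN, hyN, hsub⟩ := hX.exists_nhd_subset_components y
  refine Filter.mem_of_superset (hN.mem_nhds hyN) fun z hz ↦ ?_
  obtain ⟨Z, ⟨hZ, hyZ⟩, hzZ⟩ := hsub hz
  rw [connectedComponent_eq hy]
  exact hZ.1.isConnected.subset_connectedComponent hyZ hzZ

lemma IsLocNoetherian.locallyConnectedSpace (hX : IsLocNoetherian X) : LocallyConnectedSpace X := by
  refine locallyConnectedSpace_iff_connectedComponentIn_open.2 fun F hF x hx ↦ ?_
  rw [connectedComponentIn_eq_image hx]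
  exact hF.isOpenMap_subtype_val _ ((hX.of_isOpen F).isOpen_connectedComponent _)

lemma IsLocNoetherian.isOpen_of_pairwiseDisjoint (hX : IsLocNoetherian X)
    (hd : (irreducibleComponents X).PairwiseDisjoint id) {Z : Set X}
    (hZ : Z ∈ irreducibleComponents X) : IsOpen Z := by
  refine isOpen_iff_mem_nhds.2 fun y hy ↦ ?_
  obtain ⟨N, hN, hyN, hsub⟩ := hX.exists_nhd_subset_components y
  refine Filter.mem_of_superset (hN.mem_nhds hyN) fun z hz ↦ ?_
  obtain ⟨Z', ⟨hZ', hyZ'⟩, hzZ'⟩ := hsub hz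
  obtain rfl : Z = Z' := hd.elim hZ hZ' (Set.not_disjoint_iff.2 ⟨y, hy, hyZ'⟩)
  exact hzZ'

lemma IsLocNoetherian.tfae (hX : IsLocNoetherian X) :
    List.TFAE [∀ Z ∈ irreducibleComponents X, IsOpen Z,
      irreducibleComponents X = Set.range (connectedComponent : X → Set X),
      ∀ x : X, IsIrreducible (connectedComponent x),
      (irreducibleComponents X).PairwiseDisjoint id] := by
  have h14 : (∀ Z ∈ irreducibleComponents X, IsOpen Z) →
      (irreducibleComponents X).PairwiseDisjoint id := by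
    intro h Z hZ Z' hZ' hne
    refine Set.disjoint_iff_inter_eq_empty.2 (by_contra fun hne' ↦ hne ?_)
    change ¬Z ∩ Z' = ∅ at hne'
    have h1 := subset_closure_inter_of_isPreirreducible_of_isOpen hZ.1.isPreirreducible (h Z' hZ')
      (nonempty_iff_ne_empty.2 hne')
    have hsub : Z ⊆ Z' := h1.trans (closure_minimal inter_subset_right
      (isClosed_of_mem_irreducibleComponents Z' hZ'))
    exact hsub.antisymm (hZ.2 hZ'.1 hsub)
  tfae_have 1 → 2 := fun h ↦ by
    have hcc : ∀ Z ∈ irreducibleComponents X, ∀ x ∈ Z, connectedComponent x = Z := fun Z hZ x hx ↦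
      subset_antisymm
        (IsClopen.connectedComponent_subset ⟨isClosed_of_mem_irreducibleComponents Z hZ, h Z hZ⟩ hx)
        (hZ.1.isConnected.subset_connectedComponent hx)
    ext Z
    constructor
    · intro hZ
      obtain ⟨x, hx⟩ := hZ.1.nonempty
      exact ⟨x, hcc Z hZ x hx⟩
    · rintro ⟨x, rfl⟩
      rw [hcc _ (irreducibleComponent_mem_irreducibleComponents x) x mem_irreducibleComponent]
      exact irreducibleComponent_mem_irreducibleComponents x
  tfae_have 2 → 3 := fun h x ↦ ((h ▸ ⟨x, rfl⟩ : connectedComponent x ∈ irreducibleComponents X)).1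
  tfae_have 3 → 4 := fun h Z hZ Z' hZ' hne ↦ by
    refine Set.disjoint_left.2 fun x hxZ hxZ' ↦ hne ?_
    have hcc : ∀ Z ∈ irreducibleComponents X, x ∈ Z → Z = connectedComponent x :=
      fun Z hZ hxZ ↦ (hZ.1.isConnected.subset_connectedComponent hxZ).antisymm
        (hZ.2 (h x) (hZ.1.isConnected.subset_connectedComponent hxZ))
    exact (hcc Z hZ hxZ).trans (hcc Z' hZ' hxZ').symm
  tfae_have 4 → 1 := fun h Z hZ ↦ hX.isOpen_of_pairwiseDisjoint h hZ
  tfae_finish

end Groth.Agent.H8Top
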