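import Mathlib.AlgebraicGeometry.Morphisms.Finite
import Mathlib.AlgebraicGeometry.ResidueField
import Mathlib.RingTheory.Localization.Integral
import Mathlib.RingTheory.Artinian.Ring
import Mathlib.RingTheory.HopkinsLevitzki

/-!
# Points of finite type
-/

universe u

open CategoryTheory CategoryTheory.Limits AlgebraicGeometry Topology TopologicalSpace IsLocalRing

namespace Groth.Agent.H8Top

/-- If a field is an algebra of finite type over a subring `B`, then some localization `B[1/b]` of
`B` is a field. -/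
lemma exists_forall_prime_eq_bot {B K : Type*} [CommRing B] [IsDomain B] [Field K] [Algebra B K]
    [Algebra.FiniteType B K] (hinj : Function.Injective (algebraMap B K)) :
    ∃ b : B, b ≠ 0 ∧ ∀ q : Ideal B, q.IsPrime → b ∉ q → q = ⊥ := by
  classical
  have : FaithfulSMul B K := (faithfulSMul_iff_algebraMap_injective B K).2 hinj
  let := FractionRing.liftAlgebra B K
  have : Algebra.FiniteType (FractionRing B) K := .of_restrictScalars_finiteType B _ _
  have : Module.Finite (FractionRing B) K := finite_of_finite_type_of_isJacobsonRing _ _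
  obtain ⟨t, ht⟩ := (inferInstance : Algebra.FiniteType B K).out
  choose m hm using fun x : K ↦ IsIntegral.exists_multiple_integral_of_isLocalization
    (R := B) (nonZeroDivisors B) (Rₘ := FractionRing B) x (Algebra.IsIntegral.isIntegral x)
  let b : B := ∏ x ∈ t, (m x : B)
  have hb : b ≠ 0 := Finset.prod_ne_zero_iff.2 fun x _ ↦ nonZeroDivisors.coe_ne_zero _
  have hbK : IsUnit (algebraMap B K b) :=
    IsUnit.mk0 _ ((map_ne_zero_iff _ hinj).2 hb)
  let ψ : Localization.Away b →ₐ[B] K :=
    IsLocalization.liftAlgHom (M := Submonoid.powers b) (f := Algebra.ofId B K)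
      (fun ⟨_, n, rfl⟩ ↦ by simpa [Algebra.ofId_apply] using hbK.pow n)
  let := ψ.toRingHom.toAlgebra
  have : IsScalarTower B (Localization.Away b) K := .of_algebraMap_eq' ψ.comp_algebraMap.symm
  have hint : Algebra.IsIntegral (Localization.Away b) K := by
    refine ⟨fun y ↦ ?_⟩
    have : Algebra.adjoin B (t : Set K) ≤
        (integralClosure (Localization.Away b) K).restrictScalars B := by
      refine Algebra.adjoin_le fun x hx ↦ ?_
      have hu : IsUnit (algebraMap B (Localization.Away b) (m x : B)) := by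
        refine isUnit_of_dvd_unit ?_ (IsLocalization.Away.algebraMap_isUnit (S := Localization.Away b) b)
        exact map_dvd _ (Finset.dvd_prod_of_mem _ hx)
      have h1 : IsIntegral (Localization.Away b) (algebraMap B K (m x : B) * x) := by
        have := (hm x).tower_top (A := Localization.Away b)
        rwa [Submonoid.smul_def, Algebra.smul_def] at this
      have h2 := (isIntegral_algebraMap
        (x := ((hu.unit⁻¹ : (Localization.Away b)ˣ) : Localization.Away b)) (A := K)).mul h1
      rw [← mul_assoc, IsScalarTower.algebraMap_apply B (Localization.Away b) K,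
        ← map_mul, IsUnit.val_inv_mul, map_one, one_mul] at h2
      exact h2
    exact this (ht ▸ Algebra.mem_top)
  have hinj' : Function.Injective (algebraMap (Localization.Away b) K) :=
    (IsLocalization.lift_injective_iff _).2 fun x y ↦ ⟨fun h ↦ congrArg _ (IsLocalization.injective
      (Localization.Away b) (powers_le_nonZeroDivisors_of_noZeroDivisors hb) h),
      fun h ↦ congrArg _ (hinj h)⟩
  have hfield : IsField (Localization.Away b) :=
    isField_of_isIntegral_of_isField hinj' (Field.toIsField K)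
  refine ⟨b, hb, fun q hq hbq ↦ ?_⟩
  have hd : Disjoint (Submonoid.powers b : Set B) (q : Set B) :=
    Set.disjoint_left.2 fun x ⟨n, hn⟩ hmem ↦ hbq (hq.mem_of_pow_mem n (by
      have hn' : b ^ n = x := hn
      rw [hn']; exact hmem))
  have hp := IsLocalization.isPrime_of_isPrime_disjoint (Submonoid.powers b)
    (Localization.Away b) q hq hd
  let := hfield.toField
  have h0 := Ideal.eq_bot_or_top (Ideal.map (algebraMap B (Localization.Away b)) q)
  rw [or_iff_left hp.ne_top, Ideal.map_eq_bot_iff_of_injective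
    (IsLocalization.injective _ (powers_le_nonZeroDivisors_of_noZeroDivisors hb))] at h0
  exact h0

variable {S T : Scheme.{u}}

lemma lft_cancel_left {X Y Z : Scheme.{u}} (f : X ⟶ Y) [IsIso f] (g : Y ⟶ Z) :
    LocallyOfFiniteType (f ≫ g) ↔ LocallyOfFiniteType g :=
  have : MorphismProperty.RespectsIso @LocallyOfFiniteType.{u} :=
    MorphismProperty.IsStableUnderBaseChange.respectsIso
  MorphismProperty.cancel_left_of_respectsIso (P := @LocallyOfFiniteType) f g

lemma fromSpecResidueField_comp (f : T ⟶ S) (t : T) :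
    Spec.map (f.residueFieldMap t) ≫ S.fromSpecResidueField (f t) =
      T.fromSpecResidueField t ≫ f :=
  f.SpecMap_residueFieldMap_fromSpecResidueField t

lemma exists_isClosed_in_affine {k : Type u} [Field k] (f : Spec (CommRingCat.of k) ⟶ S)
    [LocallyOfFiniteType f] :
    ∃ U : S.Opens, IsAffineOpen U ∧ ∃ hu : f (closedPoint k) ∈ U,
      IsClosed ({⟨f (closedPoint k), hu⟩} : Set ↥U) := by
  obtain ⟨U, hU, hu, -⟩ := exists_isAffineOpen_mem_and_subset (x := f (closedPoint k)) (U := ⊤) trivial
  have hrange : Set.range f ⊆ Set.range hU.fromSpec := by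
    rintro _ ⟨z, rfl⟩
    rw [hU.range_fromSpec, Subsingleton.elim z (closedPoint k)]
    exact hu
  let g := IsOpenImmersion.lift hU.fromSpec f hrange
  have hg : g ≫ hU.fromSpec = f := IsOpenImmersion.lift_fac _ _ _
  obtain ⟨φ, hφ⟩ := Spec.map_surjective g
  have : LocallyOfFiniteType (g ≫ hU.fromSpec) := hg.symm ▸ ‹_›
  have hgft : LocallyOfFiniteType g := locallyOfFiniteType_of_comp g hU.fromSpec
  rw [← hφ, HasRingHomProperty.Spec_iff (P := @LocallyOfFiniteType)] at hgft
  let p := RingHom.ker φ.hom
  have hp : p.IsPrime := RingHom.ker_isPrime _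
  let ψ : (Γ(S, U) ⧸ p) →+* k := RingHom.kerLift φ.hom
  let := ψ.toAlgebra
  have : Algebra.FiniteType (Γ(S, U) ⧸ p) k :=
    RingHom.FiniteType.of_comp_finiteType (f := Ideal.Quotient.mk p) hgft
  obtain ⟨b, hb, hbq⟩ :=
    exists_forall_prime_eq_bot (B := Γ(S, U) ⧸ p) (K := k) (RingHom.kerLift_injective φ.hom)
  obtain ⟨a, rfl⟩ := Ideal.Quotient.mk_surjective b
  have hap : a ∉ p := fun h ↦ hb (Ideal.Quotient.eq_zero_iff_mem.2 h)
  have hu' : f (closedPoint k) = hU.fromSpec (⟨p, hp⟩ : PrimeSpectrum Γ(S, U)) := by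
    rw [← hg, ← hφ]
    refine congr_arg hU.fromSpec.base (PrimeSpectrum.ext ?_)
    change Ideal.comap φ.hom (maximalIdeal k) = p
    rw [IsLocalRing.maximalIdeal_eq_bot]
    rfl
  have hub : f (closedPoint k) ∈ S.basicOpen a := by
    have hmem : (⟨p, hp⟩ : PrimeSpectrum Γ(S, U)) ∈ hU.fromSpec ⁻¹ᵁ S.basicOpen a := by
      rw [hU.fromSpec_preimage_basicOpen]; exact hap
    rw [hu']; exact hmem
  refine ⟨S.basicOpen a, hU.basicOpen a, hub, ?_⟩
  rw [← closure_subset_iff_isClosed]
  rintro ⟨z, hz⟩ hzc
  rw [closure_subtype, Set.image_singleton] at hzc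
  obtain ⟨q, hq⟩ : z ∈ Set.range hU.fromSpec := hU.range_fromSpec.symm ▸ S.basicOpen_le a hz
  subst hq
  refine Set.mem_singleton_iff.2 (Subtype.ext ?_)
  change hU.fromSpec q = f (closedPoint k)
  have hzc : hU.fromSpec q ∈ closure {f (closedPoint k)} := hzc
  rw [hu'] at hzc ⊢
  have hle : p ≤ PrimeSpectrum.asIdeal (R := Γ(S, U)) q :=
    (PrimeSpectrum.le_iff_specializes (⟨p, hp⟩ : PrimeSpectrum Γ(S, U)) q).2
      (hU.fromSpec.isOpenEmbedding.isInducing.specializes_iff.1
        (specializes_iff_mem_closure.2 hzc))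
  refine congr_arg hU.fromSpec.base (PrimeSpectrum.ext ?_)
  change PrimeSpectrum.asIdeal (R := Γ(S, U)) q = p
  refine le_antisymm ?_ hle
  have haq : a ∉ PrimeSpectrum.asIdeal (R := Γ(S, U)) q := by
    have hmem : q ∈ hU.fromSpec ⁻¹ᵁ S.basicOpen a := hz
    rw [hU.fromSpec_preimage_basicOpen] at hmem
    exact hmem
  have hqp : (PrimeSpectrum.asIdeal (R := Γ(S, U)) q).IsPrime := PrimeSpectrum.isPrime q
  have hmapq := Ideal.map_isPrime_of_surjective Ideal.Quotient.mk_surjective
    (f := Ideal.Quotient.mk p) (I := PrimeSpectrum.asIdeal (R := Γ(S, U)) q)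
    (by rw [Ideal.mk_ker]; exact hle)
  have := hbq _ hmapq fun h ↦ haq <| by
    rw [← Ideal.mem_comap, Ideal.comap_map_of_surjective' _ Ideal.Quotient.mk_surjective,
      Ideal.mk_ker, sup_eq_left.2 hle] at h
    exact h
  rwa [Ideal.map_eq_bot_iff_le_ker, Ideal.mk_ker] at this

lemma residueFieldMap_finite (f : T ⟶ S) [LocallyOfFiniteType f] {t : T} (ht : IsClosed {t}) :
    (f.residueFieldMap t).hom.Finite := by
  have : IsClosedImmersion (T.fromSpecResidueField t) :=
    isClosed_singleton_iff_isClosedImmersion.1 ht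
  have : LocallyOfFiniteType (Spec.map (f.residueFieldMap t) ≫ S.fromSpecResidueField (f t)) := by
    rw [fromSpecResidueField_comp]; infer_instance
  have hft := locallyOfFiniteType_of_comp (Spec.map (f.residueFieldMap t))
    (S.fromSpecResidueField (f t))
  rw [HasRingHomProperty.Spec_iff (P := @LocallyOfFiniteType)] at hft
  algebraize [(f.residueFieldMap t).hom]
  change Module.Finite (S.residueField (f t)) (T.residueField t)
  exact finite_of_finite_type_of_isJacobsonRing _ _

lemma fromSpecResidueField_comp_locallyOfFiniteType (f : T ⟶ S) (t : T)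
    (hs : LocallyOfFiniteType (S.fromSpecResidueField (f t)))
    (hfin : (f.residueFieldMap t).hom.Finite) :
    LocallyOfFiniteType (T.fromSpecResidueField t ≫ f) := by
  have : LocallyOfFiniteType (Spec.map (f.residueFieldMap t)) :=
    (HasRingHomProperty.Spec_iff (P := @LocallyOfFiniteType)).2 hfin.finiteType
  rw [← fromSpecResidueField_comp]; infer_instance

lemma locallyOfFiniteType_fromSpecResidueField_of_isClosed {s : S} {U : S.Opens} (hs : s ∈ U)
    (h : IsClosed ({⟨s, hs⟩} : Set ↥U)) : LocallyOfFiniteType (S.fromSpecResidueField s) := by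
  have key : ∀ t : U.toScheme, IsClosed ({t} : Set U.toScheme) →
      LocallyOfFiniteType (S.fromSpecResidueField (U.ι t)) := by
    intro t ht
    have : IsClosedImmersion (U.toScheme.fromSpecResidueField t) :=
      isClosed_singleton_iff_isClosedImmersion.1 ht
    have h1 : LocallyOfFiniteType
        (Spec.map (U.ι.residueFieldMap t) ≫ S.fromSpecResidueField (U.ι t)) := by
      rw [fromSpecResidueField_comp]; infer_instance
    exact (lft_cancel_left _ _).1 h1
  exact key ⟨s, hs⟩ h

lemma locallyOfFiniteType_fromSpecResidueField_iff (s : S) :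
    LocallyOfFiniteType (S.fromSpecResidueField s) ↔
      ∃ U : S.Opens, IsAffineOpen U ∧ ∃ hs : s ∈ U, IsClosed ({⟨s, hs⟩} : Set ↥U) := by
  refine ⟨fun h ↦ ?_, fun ⟨U, _, hs, hc⟩ ↦ locallyOfFiniteType_fromSpecResidueField_of_isClosed hs hc⟩
  obtain ⟨U, hU, hu, hc⟩ := exists_isClosed_in_affine (k := S.residueField s) (S.fromSpecResidueField s)
  have key : ∀ {z : S}, z = s → (∀ hz : z ∈ U, IsClosed ({⟨z, hz⟩} : Set ↥U) →
      ∃ hs : s ∈ U, IsClosed ({⟨s, hs⟩} : Set ↥U)) := by
    rintro z rfl hz hc; exact ⟨hz, hc⟩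
  exact ⟨U, hU, key (S.fromSpecResidueField_apply s _) hu hc⟩

lemma locallyOfFiniteType_from_field_iff {k : Type u} [Field k]
    (f : Spec (CommRingCat.of k) ⟶ S) :
    LocallyOfFiniteType f ↔
      ∃ U : S.Opens, IsAffineOpen U ∧ ∃ hu : f (closedPoint k) ∈ U,
        IsClosed ({⟨f (closedPoint k), hu⟩} : Set ↥U) ∧
          (f.residueFieldMap (closedPoint k)).hom.Finite := by
  constructor
  · intro h
    obtain ⟨U, hU, hu, hc⟩ := exists_isClosed_in_affine f
    exact ⟨U, hU, hu, hc, residueFieldMap_finite f (isClosed_singleton_closedPoint k)⟩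
  · rintro ⟨U, -, hu, hc, hfin⟩
    have h1 := fromSpecResidueField_comp_locallyOfFiniteType f (closedPoint k)
      (locallyOfFiniteType_fromSpecResidueField_of_isClosed hu hc) hfin
    have key : ∀ t : Spec (CommRingCat.of k),
        LocallyOfFiniteType ((Spec (CommRingCat.of k)).fromSpecResidueField t ≫ f) →
        LocallyOfFiniteType f := by
      intro t ht
      have : Surjective ((Spec (CommRingCat.of k)).fromSpecResidueField t) :=
        ⟨fun z ↦ ⟨closedPoint _, Subsingleton.elim _ _⟩⟩
      have : IsClosedImmersion ((Spec (CommRingCat.of k)).fromSpecResidueField t) :=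
        isClosed_singleton_iff_isClosedImmersion.1 Set.subsingleton_of_subsingleton.isClosed
      have : IsIso ((Spec (CommRingCat.of k)).fromSpecResidueField t) :=
        isIso_of_isClosedImmersion_of_surjective _
      exact (lft_cancel_left _ _).1 ht
    exact key _ h1

lemma image_ftPts_subset (f : T ⟶ S) [LocallyOfFiniteType f] {t : T}
    (ht : LocallyOfFiniteType (T.fromSpecResidueField t)) :
    LocallyOfFiniteType (S.fromSpecResidueField (f t)) := by
  obtain ⟨U, hU, hu, hc⟩ := exists_isClosed_in_affine (k := T.residueField t)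
    (T.fromSpecResidueField t ≫ f)
  have hz : (T.fromSpecResidueField t ≫ f) (closedPoint (T.residueField t)) = f t :=
    congr_arg f.base (T.fromSpecResidueField_apply t _)
  have := locallyOfFiniteType_fromSpecResidueField_of_isClosed hu hc
  exact hz ▸ this

lemma exists_ftPt_preimage (f : T ⟶ S) [LocallyOfFiniteType f] [Surjective f] {s : S}
    (hs : LocallyOfFiniteType (S.fromSpecResidueField s)) :
    ∃ t : T, LocallyOfFiniteType (T.fromSpecResidueField t) ∧ f t = s := by
  let P := pullback f (S.fromSpecResidueField s)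
  have : JacobsonSpace P :=
    LocallyOfFiniteType.jacobsonSpace (pullback.snd f (S.fromSpecResidueField s))
  obtain ⟨p₀⟩ : Nonempty P := by
    obtain ⟨z, -⟩ := (pullback.snd f (S.fromSpecResidueField s)).surjective (closedPoint _)
    exact ⟨z⟩
  obtain ⟨p, -, hp⟩ : (Set.univ ∩ closedPoints P).Nonempty :=
    (jacobsonSpace_iff_locallyClosed (X := P)).1 ‹_› Set.univ ⟨p₀, trivial⟩
      isOpen_univ.isLocallyClosed
  have : IsClosedImmersion (P.fromSpecResidueField p) :=
    isClosed_singleton_iff_isClosedImmersion.1 hp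
  refine ⟨pullback.fst f (S.fromSpecResidueField s) p, image_ftPts_subset _ inferInstance, ?_⟩
  have := congr($(pullback.condition (f := f) (g := S.fromSpecResidueField s)) p)
  exact this.trans (S.fromSpecResidueField_apply s _)

lemma exists_ftPt_of_isLocallyClosed {Z : Set S} (hZ : IsLocallyClosed Z) (hne : Z.Nonempty) :
    (Z ∩ {s : S | LocallyOfFiniteType (S.fromSpecResidueField s)}).Nonempty := by
  obtain ⟨O, C, hO, hC, rfl⟩ := hZ
  obtain ⟨x, hxO, hxC⟩ := hne
  obtain ⟨V, hV, hxV, hVO⟩ := exists_isAffineOpen_mem_and_subset (x := x) (U := ⟨O, hO⟩) hxO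
  have : CompactSpace ↥V := isCompact_iff_compactSpace.1 hV.isCompact
  obtain ⟨z, hzC, hz⟩ := IsClosed.exists_closed_singleton
    (hC.preimage (continuous_subtype_val (p := fun y ↦ y ∈ V))) ⟨⟨x, hxV⟩, hxC⟩
  exact ⟨z, ⟨hVO z.2, hzC⟩,
    (locallyOfFiniteType_fromSpecResidueField_iff _).2 ⟨V, hV, z.2, hz⟩⟩

lemma finiteType_of_finiteType_residue {R A : Type*} [CommRing R] [CommRing A] [IsArtinianRing A]
    [IsLocalRing A] (φ : R →+* A) (h : ((residue A).comp φ).FiniteType) : φ.FiniteType := by
  classical
  algebraize [φ]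
  have hft : Algebra.FiniteType R (ResidueField A) := by
    convert (RingHom.finiteType_algebraMap (A := R) (B := ResidueField A)).1 ?_
    exact h
  obtain ⟨t, ht⟩ := hft.out
  choose g hg using residue_surjective (R := A)
  have hN : IsNoetherianRing A := inferInstance
  obtain ⟨m, hm⟩ := hN.noetherian (maximalIdeal A)
  refine ⟨⟨t.image g ∪ m, ?_⟩⟩
  let C := Algebra.adjoin R ((t.image g ∪ m : Finset A) : Set A)
  have hmod : ∀ a : A, ∃ c ∈ C, a - c ∈ maximalIdeal A := by
    intro a
    have : residue A a ∈ Algebra.adjoin R ((IsScalarTower.toAlgHom R A (ResidueField A)) ''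
        ((t.image g : Finset A) : Set A)) := by
      have : (IsScalarTower.toAlgHom R A (ResidueField A)) '' ((t.image g : Finset A) : Set A) =
          (t : Set (ResidueField A)) := by
        rw [Finset.coe_image, ← Set.image_comp]
        exact Eq.trans (Set.image_congr fun x _ ↦ hg x) (Set.image_id _)
      rw [this, ht]; trivial
    rw [← AlgHom.map_adjoin] at this
    obtain ⟨c, hc, hca⟩ := this
    exact ⟨c, Algebra.adjoin_mono (by simp) hc, by
      rw [← residue_eq_zero_iff, map_sub, sub_eq_zero]; exact hca.symm⟩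
  have key : ∀ n : ℕ, ∀ a : A, ∃ c ∈ C, a - c ∈ maximalIdeal A ^ n := by
    intro n
    induction n with
    | zero => exact fun a ↦ ⟨0, zero_mem _, by simp⟩
    | succ n ih =>
      intro a
      obtain ⟨c, hc, hac⟩ := hmod a
      rw [← hm] at hac
      obtain ⟨l, -, hl⟩ := Submodule.mem_span_finset.1 hac
      choose d hd hld using fun x ↦ ih (l x)
      refine ⟨c + ∑ x ∈ m, d x * x, add_mem hc (sum_mem fun x hx ↦ mul_mem (hd x)
        (Algebra.subset_adjoin (Finset.mem_coe.2 (Finset.mem_union_right _ hx)))), ?_⟩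
      rw [← sub_sub, ← hl, ← Finset.sum_sub_distrib]
      refine Submodule.sum_mem _ fun x hx ↦ ?_
      rw [smul_eq_mul, ← sub_mul, pow_succ]
      exact Ideal.mul_mem_mul (hld x) (hm ▸ Submodule.subset_span (Finset.mem_coe.2 hx))
  obtain ⟨n, hn⟩ := IsArtinianRing.isNilpotent_jacobson_bot (R := A)
  rw [eq_top_iff]
  intro a _
  obtain ⟨c, hc, hac⟩ := key n a
  rw [← jacobson_eq_maximalIdeal ⊥ bot_ne_top, hn, Ideal.zero_eq_bot, Ideal.mem_bot,
    sub_eq_zero] at hac
  exact hac ▸ hc

lemma finiteType_from_artinian_local_iff {A : Type u} [CommRing A] [IsArtinianRing A]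
    [IsLocalRing A] (f : Spec (CommRingCat.of A) ⟶ S) :
    LocallyOfFiniteType f ↔
      LocallyOfFiniteType (Spec.map (CommRingCat.ofHom (residue A)) ≫ f) := by
  constructor
  · intro h
    have : LocallyOfFiniteType (Spec.map (CommRingCat.ofHom (residue A))) :=
      (HasRingHomProperty.Spec_iff (P := @LocallyOfFiniteType)).2
        (RingHom.FiniteType.of_surjective _ residue_surjective)
    infer_instance
  · intro h
    obtain ⟨U, hU, hu, -⟩ := exists_isAffineOpen_mem_and_subset (x := f (closedPoint A)) (U := ⊤) trivial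
    have hrange : Set.range f ⊆ Set.range hU.fromSpec := by
      rintro _ ⟨z, rfl⟩
      rw [hU.range_fromSpec]
      exact ((IsLocalRing.specializes_closedPoint z).map f.continuous).mem_open U.isOpen hu
    obtain ⟨φ, hφ⟩ := Spec.map_surjective (IsOpenImmersion.lift hU.fromSpec f hrange)
    have hf : Spec.map φ ≫ hU.fromSpec = f := by rw [hφ, IsOpenImmersion.lift_fac]
    rw [← hf, ← Category.assoc, ← Spec.map_comp] at h
    have h' := locallyOfFiniteType_of_comp (Spec.map (φ ≫ CommRingCat.ofHom (residue A))) hU.fromSpec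
    rw [HasRingHomProperty.Spec_iff (P := @LocallyOfFiniteType)] at h'
    have : LocallyOfFiniteType (Spec.map φ) :=
      (HasRingHomProperty.Spec_iff (P := @LocallyOfFiniteType)).2
        (finiteType_of_finiteType_residue φ.hom h')
    rw [← hf]
    infer_instance

end Groth.Agent.H8Top
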