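import Mathlib.AlgebraicGeometry.Noetherian
import Mathlib.AlgebraicGeometry.Properties
import Groth.Agent.H8Top.Components

/-!
# Irreducible components and local rings
-/

universe u

open CategoryTheory AlgebraicGeometry Topology TopologicalSpace

namespace Groth.Agent.H8Top

variable {X : Scheme.{u}}

lemma isLocNoetherian_scheme (X : Scheme.{u}) [IsLocallyNoetherian X] :
    IsLocNoetherian (X : Type u) := by
  intro x
  obtain ⟨U, hU, hxU, -⟩ := exists_isAffineOpen_mem_and_subset (x := x) (U := ⊤) trivial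
  refine ⟨U, U.isOpen.mem_nhds hxU, ?_⟩
  have : IsNoetherianRing Γ(X, U) := IsLocallyNoetherian.component_noetherian ⟨U, hU⟩
  exact noetherianSpace_of_isAffineOpen U hU

lemma irreducibleSpace_spec_stalk_iff (x : X) :
    IrreducibleSpace (Spec (X.presheaf.stalk x)) ↔
      ∀ Z ∈ irreducibleComponents (X : Type u), ∀ Z' ∈ irreducibleComponents (X : Type u),
        x ∈ Z → x ∈ Z' → Z = Z' := by
  constructor
  · intro h Z hZ Z' hZ' hxZ hxZ'
    have hirr : IsIrreducible (Set.range (X.fromSpecStalk x)) := by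
      rw [← Set.image_univ]
      exact (IrreducibleSpace.isIrreducible_univ _).image _
        (X.fromSpecStalk x).continuous.continuousOn
    rw [Scheme.range_fromSpecStalk] at hirr
    obtain ⟨Z₀, hZ₀, hsub⟩ := exists_mem_irreducibleComponents_subset_of_isIrreducible _ hirr
    suffices ∀ W ∈ irreducibleComponents (X : Type u), x ∈ W → W = Z₀ from
      (this Z hZ hxZ).trans (this Z' hZ' hxZ').symm
    intro W hW hxW
    obtain ⟨ξ, hξ⟩ := QuasiSober.sober hW.1 (isClosed_of_mem_irreducibleComponents W hW)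
    have hξZ₀ : ξ ∈ Z₀ := hsub (hξ.specializes hxW)
    have hWZ₀ : W ⊆ Z₀ := by
      rw [← hξ.def]
      exact closure_minimal (Set.singleton_subset_iff.2 hξZ₀)
        (isClosed_of_mem_irreducibleComponents Z₀ hZ₀)
    exact hWZ₀.antisymm (hW.2 hZ₀.1 hWZ₀)
  · intro h
    have hZ := irreducibleComponent_mem_irreducibleComponents x
    obtain ⟨ξ, hξ⟩ := QuasiSober.sober hZ.1 (isClosed_of_mem_irreducibleComponents _ hZ)
    have hξx : ξ ⤳ x := hξ.specializes mem_irreducibleComponent
    obtain ⟨p, hp⟩ : ξ ∈ Set.range (X.fromSpecStalk x) := by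
      rw [Scheme.range_fromSpecStalk]; exact hξx
    have hgen : ∀ q, p ⤳ q := by
      intro q
      rw [← (X.fromSpecStalk x).isEmbedding.isInducing.specializes_iff, hp]
      have hqx : X.fromSpecStalk x q ⤳ x := by
        have : X.fromSpecStalk x q ∈ {y | y ⤳ x} := X.range_fromSpecStalk (x := x) ▸ ⟨q, rfl⟩
        exact this
      have hZ' := irreducibleComponent_mem_irreducibleComponents (X.fromSpecStalk x q)
      have heq := h _ hZ _ hZ' mem_irreducibleComponent
        (hqx.mem_closed (isClosed_of_mem_irreducibleComponents _ hZ') mem_irreducibleComponent)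
      exact hξ.specializes (heq ▸ mem_irreducibleComponent)
    refine (irreducibleSpace_def _).2 ?_
    have : (Set.univ : Set (Spec (X.presheaf.stalk x))) = closure {p} :=
      (Set.eq_univ_of_forall fun q ↦ (hgen q).mem_closure).symm
    rw [Set.top_eq_univ, this]
    exact isIrreducible_singleton.closure

lemma nilradical_stalk_isPrime_iff (x : X) :
    (nilradical (X.presheaf.stalk x)).IsPrime ↔
      ∀ Z ∈ irreducibleComponents (X : Type u), ∀ Z' ∈ irreducibleComponents (X : Type u),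
        x ∈ Z → x ∈ Z' → Z = Z' := by
  rw [← irreducibleSpace_spec_stalk_iff, ← PrimeSpectrum.irreducibleSpace_iff_isPrime_nilradical]
  exact Iff.rfl

lemma pairwiseDisjoint_iff (X : Scheme.{u}) :
    (irreducibleComponents (X : Type u)).PairwiseDisjoint id ↔
      ∀ x : X, (nilradical (X.presheaf.stalk x)).IsPrime := by
  simp only [nilradical_stalk_isPrime_iff]
  exact ⟨fun h x Z hZ Z' hZ' hxZ hxZ' ↦ h.elim hZ hZ' (Set.not_disjoint_iff.2 ⟨x, hxZ, hxZ'⟩),
    fun h Z hZ Z' hZ' hne ↦ Set.disjoint_left.2 fun x hxZ hxZ' ↦ hne (h x Z hZ Z' hZ' hxZ hxZ')⟩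

lemma exists_irreducible_nhd [IsLocallyNoetherian X] (x : X)
    (hx : (nilradical (X.presheaf.stalk x)).IsPrime) :
    ∃ U : X.Opens, x ∈ U ∧ IsIrreducible (U : Set X) := by
  obtain ⟨N, hN, hxN, hsub⟩ := (isLocNoetherian_scheme X).exists_nhd_subset_components x
  rw [nilradical_stalk_isPrime_iff] at hx
  refine ⟨⟨N, hN⟩, hxN, ⟨x, hxN⟩, ?_⟩
  have hsub' : N ⊆ irreducibleComponent x := fun z hz ↦ by
    obtain ⟨Z, ⟨hZ, hxZ⟩, hzZ⟩ := hsub hz
    rwa [hx _ (irreducibleComponent_mem_irreducibleComponents x) Z hZ mem_irreducibleComponent hxZ]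
  exact isIrreducible_irreducibleComponent.isPreirreducible.open_subset hN hsub'

open scoped nonZeroDivisors in
lemma exists_isReduced_away {A : Type*} [CommRing A] [IsNoetherianRing A] (p : Ideal A) [p.IsPrime]
    {S : Type*} [CommRing S] [Algebra A S] [IsLocalization.AtPrime S p] [_root_.IsReduced S] :
    ∃ s ∉ p, _root_.IsReduced (Localization.Away s) := by
  classical
  obtain ⟨T, hT⟩ := (IsNoetherian.noetherian (nilradical A) : (nilradical A).FG)
  have : ∀ a ∈ nilradical A, ∃ s ∉ p, s * a = 0 := by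
    intro a ha
    have h0 : algebraMap A S a = 0 := (IsNilpotent.map (mem_nilradical.1 ha) (algebraMap A S)).eq_zero
    obtain ⟨⟨s, hs⟩, hsa⟩ := (IsLocalization.map_eq_zero_iff p.primeCompl S a).1 h0
    exact ⟨s, hs, hsa⟩
  choose! f hfp hf using this
  have hmem : ∀ t ∈ T, t ∈ nilradical A := fun t ht ↦ hT ▸ Submodule.subset_span ht
  let s := ∏ t ∈ T, f t
  have hs : s ∉ p := fun h ↦ by
    obtain ⟨t, ht, ht'⟩ := Ideal.IsPrime.prod_mem_iff.1 h
    exact hfp t (hmem t ht) ht'
  have hsa : ∀ a ∈ nilradical A, s * a = 0 := by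
    intro a ha
    rw [← hT] at ha
    induction ha using Submodule.span_induction with
    | mem t ht =>
      rw [show s = f t * ∏ t' ∈ T.erase t, f t' from (Finset.mul_prod_erase T f ht).symm,
        mul_right_comm, hf t (hmem t ht), zero_mul]
    | zero => simp
    | add a b _ _ ha hb => simp [mul_add, ha, hb]
    | smul r a _ ha => rw [smul_eq_mul, mul_left_comm, ha, mul_zero]
  refine ⟨s, hs, ⟨fun y ⟨n, hn⟩ ↦ ?_⟩⟩
  obtain ⟨⟨a, t⟩, rfl⟩ := IsLocalization.mk'_surjective (Submonoid.powers s) y |>.imp' id fun _ h ↦ h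
  rw [← IsLocalization.mk'_pow, IsLocalization.mk'_eq_zero_iff] at hn
  obtain ⟨⟨_, k, rfl⟩, hk⟩ := hn
  rw [IsLocalization.mk'_eq_zero_iff]
  refine ⟨⟨s * s ^ k, ⟨k + 1, pow_succ' s k⟩⟩, ?_⟩
  have hnil : s ^ k * a ∈ nilradical A := ⟨n + 1, by
    rw [Ideal.zero_eq_bot, Ideal.mem_bot, mul_pow, pow_succ (a := a), pow_succ (a := s ^ k)]
    linear_combination (a * (s ^ k) ^ n) * hk⟩
  simpa [mul_assoc] using hsa _ hnil

lemma exists_reduced_nhd [IsLocallyNoetherian X] (x : X)
    [_root_.IsReduced (X.presheaf.stalk x)] :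
    ∃ U : X.Opens, x ∈ U ∧ IsReduced (U : Scheme.{u}) := by
  obtain ⟨U, hU, hxU, -⟩ := exists_isAffineOpen_mem_and_subset (x := x) (U := ⊤) trivial
  have : IsNoetherianRing Γ(X, U) := IsLocallyNoetherian.component_noetherian ⟨U, hU⟩
  let := TopCat.Presheaf.algebra_section_stalk X.presheaf (⟨x, hxU⟩ : U)
  have := hU.isLocalization_stalk ⟨x, hxU⟩
  obtain ⟨s, hs, hred⟩ :=
    exists_isReduced_away (hU.primeIdealOf ⟨x, hxU⟩).asIdeal (S := X.presheaf.stalk x)
  refine ⟨X.basicOpen s, (X.mem_basicOpen s x hxU).2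
    (IsLocalization.map_units (M := (hU.primeIdealOf ⟨x, hxU⟩).asIdeal.primeCompl) _ ⟨s, hs⟩), ?_⟩
  have hB := hU.basicOpen s
  have : IsAffine (X.basicOpen s : Scheme.{u}) := hB
  have := hU.isLocalization_basicOpen s
  have : _root_.IsReduced Γ(X, X.basicOpen s) :=
    isReduced_of_injective _
      (IsLocalization.algEquiv (Submonoid.powers s) Γ(X, X.basicOpen s) (Localization.Away s)).injective
  have : _root_.IsReduced Γ(X.basicOpen s, ⊤) :=
    isReduced_of_injective _
      (X.basicOpen s).topIso.commRingCatIsoToRingEquiv.injective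
  exact isReduced_of_isAffine_isReduced _

end Groth.Agent.H8Top
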